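import Groth.Agent.MonoFibre.AntiAffine
import Groth.Agent.MonoFibre.KernelFibre
import Groth.Agent.GrpQuotLib.Descend
import Groth.Agent.GrpQuotLib.KerGrp
import Groth.Agent.GenSubLib.AlgClosed
import Groth.Agent.S3293
import Groth.Agent.MonoFibre.AntiAffineApps

/-!
# Bundles trivialized by an anti-affine extension are homogeneous
-/

set_option autoImplicit false
set_option backward.isDefEq.respectTransparency false
set_option linter.unusedSectionVars false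

universe u

open CategoryTheory CategoryTheory.Limits MonoidalCategory CartesianMonoidalCategory MonObj GrpObj AlgebraicGeometry

attribute [-instance] CategoryTheory.Hom.commGroup

noncomputable section

namespace Groth.Agent.HomogBun

open MonoFibre MonoFibre.AntiAffineApps

variable {k : Type u} [Field k]

local notation "𝒮" => Over (Spec (CommRingCat.of k))

theorem act_mul {G X : 𝒮} [GrpObj G] (a : AlgGrp.Action G X) {T : 𝒮} (g g' : T ⟶ G) (p : T ⟶ X) :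
    lift (g * g') p ≫ (AlgGrp.Action.act a) = lift g (lift g' p ≫ (AlgGrp.Action.act a)) ≫ (AlgGrp.Action.act a) := by
  have h := congrArg (lift (lift g g') p ≫ ·) (AlgGrp.Action.mul_act a)
  simp only [← Category.assoc, lift_whiskerRight, lift_lift_associator_hom, lift_whiskerLeft] at h
  rw [Hom.mul_def]
  exact h

theorem mul_comm_hom {E : 𝒮} [GrpObj E] [IsCommMonObj E] {T : 𝒮} (p q : T ⟶ E) : p * q = q * p := by
  rw [Hom.mul_def, Hom.mul_def]
  have h := congrArg (lift q p ≫ ·) (IsCommMonObj.mul_comm E)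
  simp only [← Category.assoc] at h
  rw [← h]
  congr 1
  apply CartesianMonoidalCategory.hom_ext <;> simp

variable {G X A E Hk : Over (Spec (CommRingCat.of k))} [GrpObj G] [GrpObj A] [GrpObj E] [GrpObj Hk]
  (a : AlgGrp.Action G X) (π : X ⟶ A) (σ : E ⟶ X)

/-- `ψ` moves `g · σ(x)` to `g · σ(x e)`. -/
def IsTrans (e : 𝟙_ 𝒮 ⟶ E) (ψ : X ⟶ X) : Prop :=
  ∀ (T : 𝒮) (g : T ⟶ G) (x : T ⟶ E),
    lift g (x ≫ σ) ≫ (AlgGrp.Action.act a) ≫ ψ = lift g ((x * (toUnit T ≫ e)) ≫ σ) ≫ (AlgGrp.Action.act a)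

variable {a π σ}

theorem act_π (hinv : (AlgGrp.Action.act a) ≫ π = snd G X ≫ π) {T : 𝒮} (g : T ⟶ G) (p : T ⟶ X) :
    lift g p ≫ (AlgGrp.Action.act a) ≫ π = p ≫ π := by
  rw [hinv, lift_snd_assoc]

theorem isTrans_id : IsTrans a σ η[E] (𝟙 X) := fun T g x => by
  rw [Category.comp_id, ← Hom.one_def, _root_.mul_one]

theorem isTrans_comp {e e' : 𝟙_ 𝒮 ⟶ E} {ψ ψ' : X ⟶ X} (h : IsTrans a σ e ψ) (h' : IsTrans a σ e' ψ') :
    IsTrans a σ (e * e') (ψ ≫ ψ') := fun T g x => by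
  rw [MonObj.comp_mul, ← _root_.mul_assoc, ← h' T g, ← reassoc_of% h T g x]

variable [Smooth E.hom] [QuasiCompact E.hom]

section

variable (hinv : (AlgGrp.Action.act a) ≫ π = snd G X ≫ π) (hcart : IsPullback (snd G X) (AlgGrp.Action.act a) π π)
  (φ : E ⟶ A) (hσ : σ ≫ π = φ)

include hcart in
theorem eq_of_act_eq {T : 𝒮} {g g' : T ⟶ G} {q : T ⟶ X} (h : lift g q ≫ (AlgGrp.Action.act a) = lift g' q ≫ (AlgGrp.Action.act a)) : g = g' := by
  have this : lift g q = lift g' q := hcart.hom_ext ((lift_snd g q).trans (lift_snd g' q).symm) h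
  simpa using congrArg (· ≫ fst G X) this

include hcart in
theorem exists_div {T : 𝒮} (q p : T ⟶ X) (h : q ≫ π = p ≫ π) : ∃ g : T ⟶ G, lift g q ≫ (AlgGrp.Action.act a) = p := by
  obtain ⟨w, hw, hw'⟩ := hcart.exists_lift q p h
  refine ⟨w ≫ fst G X, ?_⟩
  rw [show lift (w ≫ fst G X) q = w by apply CartesianMonoidalCategory.hom_ext <;> simp [hw], hw']

variable [IsMonHom φ] [Flat φ.left] [Surjective φ.left] [IsProper A.hom] [IsAffine G.left] [IsAffine Hk.left]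
  (hE : Function.Bijective ((Scheme.ΓSpecIso (CommRingCat.of k)).inv ≫ E.hom.appTop).hom)
  (hk₀ : Hk ⟶ E) [IsMonHom hk₀] (hkk : AlgGrp.IsKernel hk₀ φ)

include hinv hcart hσ hkk hE in
theorem exists_trans (e : 𝟙_ 𝒮 ⟶ E) : ∃ ψ : X ⟶ X, IsTrans a σ e ψ ∧
    (G ◁ ψ) ≫ (AlgGrp.Action.act a) = (AlgGrp.Action.act a) ≫ ψ ∧ ψ ≫ π = π ≫ (𝟙 A * (toUnit A ≫ e ≫ φ)) ∧
    ∀ ψ' : X ⟶ X, IsTrans a σ e ψ' → ψ' = ψ := by
  haveI : LocallyOfFiniteType E.hom := inferInstance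
  obtain ⟨-, hcomm⟩ := Groth.Agent.S3293.result k E hE
  haveI := hcomm
  -- the cocycle
  obtain ⟨c, hc⟩ := exists_div hcart (fst E Hk ≫ σ) ((fst E Hk * (snd E Hk ≫ hk₀)) ≫ σ) (by
    simp only [Category.assoc, hσ]
    rw [MonObj.mul_comp, Category.assoc (snd E Hk), show hk₀ ≫ φ = 1 from by simpa using comp_isKernel hkk (𝟙 Hk),
      MonObj.comp_one, _root_.mul_one])
  have hc₀ := MonoFibre.AntiAffine.factor_snd hE c
  let c₀ : Hk ⟶ G := lift (toUnit Hk ≫ η[E]) (𝟙 Hk) ≫ c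
  have coc : ∀ (T : 𝒮) (x : T ⟶ E) (n : T ⟶ Hk), lift (n ≫ c₀) (x ≫ σ) ≫ (AlgGrp.Action.act a) = (x * (n ≫ hk₀)) ≫ σ := by
    intro T x n
    have h1 := congrArg (lift x n ≫ ·) hc
    simp only [← Category.assoc, comp_lift, lift_fst, MonObj.comp_mul, lift_snd] at h1
    rwa [show lift x n ≫ c = n ≫ c₀ by rw [hc₀, lift_snd_assoc]] at h1
  -- the cover
  let Y := Limits.pullback π φ
  let p₁ : Y ⟶ X := Limits.pullback.fst π φ
  let p₂ : Y ⟶ E := Limits.pullback.snd π φ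
  haveI : QuasiCompact φ.left := by
    haveI : QuasiCompact (φ.left ≫ A.hom) := by rw [Over.w]; infer_instance
    exact QuasiCompact.of_comp φ.left A.hom
  have sq := GrpQuotLib.isPullback_left (IsPullback.of_hasPullback π φ)
  haveI : Flat p₁.left := MorphismProperty.of_isPullback sq.flip ‹Flat φ.left›
  haveI : Surjective p₁.left := MorphismProperty.of_isPullback sq.flip ‹Surjective φ.left›
  haveI : QuasiCompact p₁.left := MorphismProperty.of_isPullback sq.flip ‹QuasiCompact φ.left›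
  haveI := SchDesc.IsFpqc.of_quasiCompact p₁.left
  haveI := GrpQuotLib.epi_of_isFpqc p₁
  obtain ⟨gY, hgY⟩ := exists_div hcart (p₂ ≫ σ) p₁ (by rw [Category.assoc, hσ]; exact Limits.pullback.condition.symm)
  let eT : ∀ T : 𝒮, T ⟶ E := fun T => toUnit T ≫ e
  have heT : ∀ {T T' : 𝒮} (b : T ⟶ T'), b ≫ eT T' = eT T := fun b => by
    simp only [eT, ← Category.assoc, toUnit_unique (b ≫ toUnit _) (toUnit _)]
  obtain ⟨ψ, hψ⟩ := GrpQuotLib.exists_desc p₁ (lift gY ((p₂ * eT Y) ≫ σ) ≫ (AlgGrp.Action.act a)) (fun T y z hyz => by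
    have e1 : ∀ w : T ⟶ Y, lift (w ≫ gY) ((w ≫ p₂) ≫ σ) ≫ (AlgGrp.Action.act a) = w ≫ p₁ := fun w => by
      rw [← hgY, ← Category.assoc w (lift gY (p₂ ≫ σ)), comp_lift, Category.assoc w p₂]
    have e2 : ∀ w : T ⟶ Y, w ≫ lift gY ((p₂ * eT Y) ≫ σ) ≫ (AlgGrp.Action.act a) =
        lift (w ≫ gY) (((w ≫ p₂) * eT T) ≫ σ) ≫ (AlgGrp.Action.act a) := fun w => by
      rw [← Category.assoc, comp_lift, ← Category.assoc w (p₂ * eT Y), MonObj.comp_mul, heT]
    obtain ⟨n, hn⟩ := exists_of_isKernel hkk ((y ≫ p₂)⁻¹ * (z ≫ p₂)) (by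
      rw [MonObj.mul_comp, GrpObj.inv_comp, Category.assoc, Category.assoc, ← Limits.pullback.condition,
        ← Category.assoc y, ← Category.assoc z, hyz, inv_mul_cancel])
    have hz : z ≫ p₂ = (y ≫ p₂) * (n ≫ hk₀) := by rw [hn, mul_inv_cancel_left]
    have hg : y ≫ gY = (z ≫ gY) * (n ≫ c₀) := by
      refine eq_of_act_eq hcart (q := (y ≫ p₂) ≫ σ) ?_
      rw [e1, act_mul, coc, ← hz, e1, hyz]
    rw [e2, e2, hz, hg, act_mul, coc, _root_.mul_assoc (y ≫ p₂) (eT T), mul_comm_hom (eT T) (n ≫ hk₀), _root_.mul_assoc])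
  have hspec : IsTrans a σ e ψ := fun T g x => by
    let z : T ⟶ Y := Limits.pullback.lift (lift g (x ≫ σ) ≫ (AlgGrp.Action.act a)) x
      (by rw [Category.assoc, act_π hinv, Category.assoc, hσ])
    have hz1 : z ≫ p₁ = lift g (x ≫ σ) ≫ (AlgGrp.Action.act a) := Limits.pullback.lift_fst _ _ _
    have hz2 : z ≫ p₂ = x := Limits.pullback.lift_snd _ _ _
    have hzg : z ≫ gY = g := eq_of_act_eq hcart (q := x ≫ σ) (by
      rw [← hz1, ← hgY, ← Category.assoc z (lift gY (p₂ ≫ σ)), comp_lift, ← Category.assoc z p₂, hz2])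
    rw [← Category.assoc, ← hz1, Category.assoc, hψ, ← Category.assoc, comp_lift, hzg,
      ← Category.assoc z (p₂ * eT Y), MonObj.comp_mul, hz2, heT]
  refine ⟨ψ, hspec, ?_, ?_, fun ψ' hψ' => ?_⟩
  · haveI := GrpQuotLib.isFpqc_whiskerLeft p₁ G
    haveI := GrpQuotLib.epi_of_isFpqc (G ◁ p₁)
    rw [← cancel_epi (G ◁ p₁)]
    have hp : G ◁ p₁ = lift (fst G Y) (lift (snd G Y ≫ gY) ((snd G Y ≫ p₂) ≫ σ) ≫ (AlgGrp.Action.act a)) := by
      apply CartesianMonoidalCategory.hom_ext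
      · simp
      · rw [lift_snd, whiskerLeft_snd, ← hgY, ← Category.assoc (snd G Y) (lift gY (p₂ ≫ σ)), comp_lift,
          Category.assoc (snd G Y) p₂]
    rw [← Category.assoc, hp, lift_whiskerLeft, Category.assoc, hspec, ← Category.assoc (lift _ _) (AlgGrp.Action.act a),
      ← act_mul, ← act_mul, Category.assoc, hspec]
  · rw [← cancel_epi p₁]
    conv_lhs => rw [← hgY, Category.assoc, reassoc_of% hspec Y gY p₂, act_π hinv, Category.assoc, hσ,
      MonObj.mul_comp, Category.assoc]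
    rw [← Category.assoc p₁ π, MonObj.comp_mul, Category.comp_id,
      show p₁ ≫ π = p₂ ≫ φ from Limits.pullback.condition, Category.assoc p₂]
    congr 1
    simp only [← Category.assoc, toUnit_unique _ (toUnit Y)]
  · rw [← cancel_epi p₁, ← hgY, Category.assoc, Category.assoc, hspec, hψ']

include hinv hcart hσ hkk hE in
theorem exists_iso [IsAlgClosed k] [LocallyOfFiniteType A.hom] (t : 𝟙_ 𝒮 ⟶ A) :
    ∃ ψ : X ≅ X, (G ◁ ψ.hom) ≫ (AlgGrp.Action.act a) = (AlgGrp.Action.act a) ≫ ψ.hom ∧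
      ψ.hom ≫ π = π ≫ (lift (𝟙 A) (toUnit A ≫ t) ≫ μ[A]) := by
  haveI : LocallyOfFiniteType E.hom := inferInstance
  obtain ⟨e, he⟩ := GenSubLib.exists_pt_lift φ t (φ.left.surjective _)
  obtain ⟨ψ, hψ, hG, hA, -⟩ := exists_trans hinv hcart φ hσ hE hk₀ hkk e
  obtain ⟨ψ', hψ', -, -, -⟩ := exists_trans hinv hcart φ hσ hE hk₀ hkk e⁻¹
  obtain ⟨ψ₁, -, -, -, hu⟩ := exists_trans hinv hcart φ hσ hE hk₀ hkk η[E]
  have h1 : (η[E] : 𝟙_ 𝒮 ⟶ E) = 1 := by rw [Hom.one_def, toUnit_unit, Category.id_comp]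
  refine ⟨⟨ψ, ψ', ?_, ?_⟩, hG, by rw [hA, he, Hom.mul_def]⟩
  · rw [hu _ isTrans_id]
    exact hu _ (by rw [h1, ← mul_inv_cancel e]; exact isTrans_comp hψ hψ')
  · rw [hu _ isTrans_id]
    exact hu _ (by rw [h1, ← inv_mul_cancel e]; exact isTrans_comp hψ' hψ)

end

end Groth.Agent.HomogBun
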